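import Mathlib

/-!
The semidirect product of the Heisenberg group of order 27 with `SL₂(3)`.
-/

set_option autoImplicit false

namespace Cfsg.Agent.Lib.HeisSL23

open Matrix

/-- The Heisenberg group of order 27. -/
@[ext]
structure Heis where
  x : ZMod 3
  y : ZMod 3
  c : ZMod 3

instance : Fintype Heis :=
  Fintype.ofEquiv (ZMod 3 × ZMod 3 × ZMod 3)
    { toFun := fun p => ⟨p.1, p.2.1, p.2.2⟩
      invFun := fun h => (h.x, h.y, h.c)
      left_inv := fun _ => rfl
      right_inv := fun _ => rfl }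

theorem card_heis : Nat.card Heis = 27 := by
  rw [Nat.card_eq_fintype_card]
  rfl

instance : Mul Heis :=
  ⟨fun a b => ⟨a.x + b.x, a.y + b.y, a.c + b.c + (a.x * b.y - a.y * b.x)⟩⟩
instance : One Heis := ⟨⟨0, 0, 0⟩⟩
instance : Inv Heis := ⟨fun a => ⟨-a.x, -a.y, -a.c⟩⟩

@[simp] theorem mul_x (a b : Heis) : (a * b).x = a.x + b.x := rfl
@[simp] theorem mul_y (a b : Heis) : (a * b).y = a.y + b.y := rfl
@[simp] theorem mul_c (a b : Heis) : (a * b).c = a.c + b.c + (a.x * b.y - a.y * b.x) := rfl
@[simp] theorem one_x : (1 : Heis).x = 0 := rfl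
@[simp] theorem one_y : (1 : Heis).y = 0 := rfl
@[simp] theorem one_c : (1 : Heis).c = 0 := rfl
@[simp] theorem inv_x (a : Heis) : a⁻¹.x = -a.x := rfl
@[simp] theorem inv_y (a : Heis) : a⁻¹.y = -a.y := rfl
@[simp] theorem inv_c (a : Heis) : a⁻¹.c = -a.c := rfl

instance : Group Heis where
  mul_assoc a b c := by ext <;> simp only [mul_x, mul_y, mul_c] <;> ring
  one_mul a := by ext <;> simp
  mul_one a := by ext <;> simp
  inv_mul_cancel a := by ext <;> simp <;> ring

theorem pow_eq (a : Heis) (n : ℕ) : a ^ n = ⟨n * a.x, n * a.y, n * a.c⟩ := by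
  induction n with
  | zero => ext <;> simp
  | succ n ih => rw [pow_succ, ih]; ext <;> simp <;> ring

/-- Generators. -/
def ga : Heis := ⟨1, 0, 0⟩
/-- Generators. -/
def gb : Heis := ⟨0, 1, 0⟩
/-- The central generator. -/
def gz : Heis := ⟨0, 0, 1⟩

theorem gb_mul_ga : gb * ga = ga * gb * gz := by
  ext <;> simp [ga, gb, gz]
  decide

theorem heis_eq (h : Heis) : h = ga ^ h.x.val * gb ^ h.y.val * gz ^ (h.c - h.x * h.y).val := by
  simp only [pow_eq, ga, gb, gz]
  ext <;> simp

/-- The automorphism negating the two non-central coordinates. -/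
def negAut : MulAut Heis where
  toFun h := ⟨-h.x, -h.y, h.c⟩
  invFun h := ⟨-h.x, -h.y, h.c⟩
  left_inv h := by ext <;> simp
  right_inv h := by ext <;> simp
  map_mul' a b := by ext <;> simp <;> ring

/-- Linear action. -/
def lin (A : Matrix (Fin 2) (Fin 2) (ZMod 3)) (h : Heis) : Heis :=
  ⟨A 0 0 * h.x + A 0 1 * h.y, A 1 0 * h.x + A 1 1 * h.y, h.c⟩

theorem lin_mul {A : Matrix (Fin 2) (Fin 2) (ZMod 3)} (hA : A.det = 1) (a b : Heis) :
    lin A (a * b) = lin A a * lin A b := by
  rw [Matrix.det_fin_two] at hA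
  ext <;> simp [lin]
  · ring
  · ring
  · linear_combination (-(a.x * b.y - a.y * b.x)) * hA

theorem lin_lin (A B : Matrix (Fin 2) (Fin 2) (ZMod 3)) (h : Heis) :
    lin A (lin B h) = lin (A * B) h := by
  ext <;> simp [lin, Matrix.mul_apply, Fin.sum_univ_two] <;> ring

theorem lin_one (h : Heis) : lin 1 h = h := by ext <;> simp [lin]

abbrev SL23 := Matrix.SpecialLinearGroup (Fin 2) (ZMod 3)

/-- The action of `SL₂(3)`. -/
def act : SL23 →* MulAut Heis where
  toFun A :=
    { toFun := lin A.1
      invFun := lin (A⁻¹).1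
      left_inv := fun h => by
        rw [lin_lin, ← Matrix.SpecialLinearGroup.coe_mul, inv_mul_cancel,
          Matrix.SpecialLinearGroup.coe_one, lin_one]
      right_inv := fun h => by
        rw [lin_lin, ← Matrix.SpecialLinearGroup.coe_mul, mul_inv_cancel,
          Matrix.SpecialLinearGroup.coe_one, lin_one]
      map_mul' := lin_mul A.2 }
  map_one' := MulEquiv.ext fun h => by
    show lin (1 : SL23).1 h = h
    rw [Matrix.SpecialLinearGroup.coe_one, lin_one]
  map_mul' A B := MulEquiv.ext fun h => by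
    show lin (A * B).1 h = lin A.1 (lin B.1 h)
    rw [lin_lin, Matrix.SpecialLinearGroup.coe_mul]

theorem act_apply (A : SL23) (h : Heis) : act A h = lin A.1 h := rfl

theorem act_injective : Function.Injective act := by
  intro A B e
  have e0 := DFunLike.congr_fun e ga
  have e1 := DFunLike.congr_fun e gb
  simp [act_apply, lin, ga, gb, Heis.ext_iff] at e0 e1
  ext i j
  fin_cases i <;> fin_cases j <;> simp [e0.1, e0.2, e1.1, e1.2]

/-- Automorphisms fixing the centre pointwise and commuting with `negAut` are linear. -/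
theorem exists_act (α : MulAut Heis) (hz : α gz = gz) (hn : ∀ h, α (negAut h) = negAut (α h)) :
    ∃ A : SL23, α = act A := by
  have key : ∀ g : Heis, negAut g = g⁻¹ → (α g).c = 0 := by
    intro g hg
    have h := hn g
    rw [hg, map_inv] at h
    have h' : -(α g).c = (α g).c := congrArg Heis.c h
    have h3 : ∀ t : ZMod 3, -t = t → t = 0 := by decide
    exact h3 _ h'
  have ca := key ga (by ext <;> simp [negAut, ga] <;> rfl)
  have cb := key gb (by ext <;> simp [negAut, gb] <;> rfl)
  let A : Matrix (Fin 2) (Fin 2) (ZMod 3) := !![(α ga).x, (α gb).x; (α ga).y, (α gb).y]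
  have hrel := congrArg α gb_mul_ga
  rw [map_mul, map_mul, map_mul, hz] at hrel
  have hc := congrArg Heis.c hrel
  simp [ca, cb, gz] at hc
  have hdet : A.det = 1 := by
    rw [Matrix.det_fin_two]
    simp [A]
    have h3 : (3 : ZMod 3) = 0 := rfl
    linear_combination hc + ((α ga).x * (α gb).y - (α gb).x * (α ga).y) * h3
  refine ⟨⟨A, hdet⟩, MulEquiv.ext fun h => ?_⟩
  conv_lhs => rw [heis_eq h]
  rw [map_mul, map_mul, map_pow, map_pow, map_pow, hz, pow_eq, pow_eq, pow_eq]
  have hdet' : (α ga).x * (α gb).y - (α gb).x * (α ga).y = 1 := by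
    simpa [A, Matrix.det_fin_two] using hdet
  show _ = lin A h
  ext <;> simp [lin, A, ca, cb, gz]
  · ring
  · ring
  · linear_combination (h.x * h.y) * hdet'

section Hom

variable {R : Type*} [Group R] {a b z : R}

theorem pow_val_add {g : R} (hg : g ^ 3 = 1) (s t : ZMod 3) :
    g ^ (s + t).val = g ^ s.val * g ^ t.val := by
  rw [ZMod.val_add, ← pow_eq_pow_mod _ hg, pow_add]

theorem pow_val_mul {g : R} (hg : g ^ 3 = 1) (s t : ZMod 3) :
    g ^ (s * t).val = g ^ (s.val * t.val) := by
  rw [ZMod.val_mul, ← pow_eq_pow_mod _ hg]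

theorem pow_mul_pow (hba : b * a = a * b * z) (hza : Commute z a) (hzb : Commute z b) (j i : ℕ) :
    b ^ j * a ^ i = a ^ i * b ^ j * z ^ (j * i) := by
  induction i with
  | zero => simp
  | succ i ih =>
    have hj : b ^ j * a = a * b ^ j * z ^ j := by
      clear ih
      induction j with
      | zero => simp
      | succ j jh =>
        calc b ^ (j + 1) * a = b ^ j * (b * a) := by rw [pow_succ, mul_assoc]
          _ = b ^ j * a * b * z := by rw [hba]; simp only [mul_assoc]
          _ = a * b ^ j * (z ^ j * b) * z := by rw [jh]; simp only [mul_assoc]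
          _ = a * b ^ (j + 1) * z ^ (j + 1) := by
            rw [(hzb.pow_left j).eq, pow_succ, pow_succ]; simp only [mul_assoc]
    calc b ^ j * a ^ (i + 1) = a ^ i * b ^ j * z ^ (j * i) * a := by
          rw [pow_succ, ← mul_assoc, ih]
      _ = a ^ i * (b ^ j * a) * z ^ (j * i) := by
          simp only [mul_assoc, (hza.pow_left (j * i)).eq]
      _ = a ^ (i + 1) * b ^ j * z ^ (j * (i + 1)) := by
          rw [hj, pow_succ, Nat.mul_succ, add_comm (j * i), pow_add]; simp only [mul_assoc]

/-- Homomorphisms out of the Heisenberg group. -/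
def lift (ha : a ^ 3 = 1) (hb : b ^ 3 = 1) (hz : z ^ 3 = 1) (hba : b * a = a * b * z)
    (hza : Commute z a) (hzb : Commute z b) : Heis →* R where
  toFun h := a ^ h.x.val * b ^ h.y.val * z ^ (h.c - h.x * h.y).val
  map_one' := by simp
  map_mul' g h := by
    have hc : (g * h).c - (g * h).x * (g * h).y =
        (g.c - g.x * g.y) + (g.y * h.x + (h.c - h.x * h.y)) := by
      have h3 : (3 : ZMod 3) = 0 := rfl
      simp
      linear_combination (-(g.y * h.x)) * h3
    rw [hc, mul_x, mul_y, pow_val_add ha, pow_val_add hb, pow_val_add hz, pow_val_add hz,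
      pow_val_mul hz]
    generalize (g.c - g.x * g.y).val = k
    generalize (h.c - h.x * h.y).val = n
    generalize g.x.val = i, h.x.val = i', g.y.val = j, h.y.val = j'
    symm
    calc a ^ i * b ^ j * z ^ k * (a ^ i' * b ^ j' * z ^ n)
        = a ^ i * b ^ j * (z ^ k * a ^ i') * b ^ j' * z ^ n := by simp only [mul_assoc]
      _ = a ^ i * (b ^ j * a ^ i') * (z ^ k * b ^ j') * z ^ n := by
          rw [(hza.pow_pow k i').eq]; simp only [mul_assoc]
      _ = a ^ i * a ^ i' * b ^ j * (z ^ (j * i') * b ^ j') * z ^ k * z ^ n := by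
          rw [pow_mul_pow hba hza hzb, (hzb.pow_pow k j').eq]; simp only [mul_assoc]
      _ = a ^ i * a ^ i' * (b ^ j * b ^ j') * (z ^ k * (z ^ (j * i') * z ^ n)) := by
          rw [(hzb.pow_pow (j * i') j').eq, ← mul_assoc (z ^ k), (Commute.pow_pow_self z k (j * i')).eq]
          simp only [mul_assoc]

theorem lift_apply (ha : a ^ 3 = 1) (hb : b ^ 3 = 1) (hz : z ^ 3 = 1) (hba : b * a = a * b * z)
    (hza : Commute z a) (hzb : Commute z b) (h : Heis) :
    lift ha hb hz hba hza hzb h = a ^ h.x.val * b ^ h.y.val * z ^ (h.c - h.x * h.y).val := rfl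

end Hom

end Cfsg.Agent.Lib.HeisSL23
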