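import Cfsg.Prelude.Def_Classical
import Cfsg.Agent.Lib.HeisSL23.Model
import Cfsg.Agent.Lib.Symplectic.Std
import Cfsg.Agent.Lib.Linear.Order

/-!
The centraliser of a transvection in `PSp₄(3)`.
-/

set_option autoImplicit false

namespace Cfsg.Agent.Lib.HeisSL23

open Matrix

abbrev I4 := Fin 2 ⊕ Fin 2

section Blk

variable {F : Type*} [CommRing F]

/-- The elements of the point stabiliser. -/
def blk (x y c : F) (A : Matrix (Fin 2) (Fin 2) F) : Matrix I4 I4 F :=
  Matrix.fromBlocks !![1, x * A 1 0 - y * A 0 0; 0, A 0 0] !![c, x * A 1 1 - y * A 0 1; x, A 0 1]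
    !![0, 0; 0, A 1 0] !![1, 0; y, A 1 1]

theorem blk_mul {x y c x' y' c' : F} {A B : Matrix (Fin 2) (Fin 2) F} (hA : A.det = 1) :
    blk x y c A * blk x' y' c' B =
      blk (x + (A 0 0 * x' + A 0 1 * y')) (y + (A 1 0 * x' + A 1 1 * y'))
        (c + c' + (x * (A 1 0 * x' + A 1 1 * y') - y * (A 0 0 * x' + A 0 1 * y'))) (A * B) := by
  rw [Matrix.det_fin_two] at hA
  rw [blk, blk, blk, Matrix.fromBlocks_multiply]
  congr 1 <;> ext i j <;> fin_cases i <;> fin_cases j <;>
    simp [Matrix.mul_apply, Fin.sum_univ_two] <;>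
    first
      | ring1
      | linear_combination (-(x' * B 1 0 - y' * B 0 0)) * hA
      | linear_combination (-(x' * B 1 1 - y' * B 0 1)) * hA

theorem blk_one : blk (0 : F) 0 0 1 = 1 := by
  ext (i | i) (j | j) <;> fin_cases i <;> fin_cases j <;> simp [blk, Matrix.one_apply]

theorem blk_mem {x y c : F} {A : Matrix (Fin 2) (Fin 2) F} (hA : A.det = 1) :
    blk x y c A ∈ Matrix.symplecticGroup (Fin 2) F := by
  rw [Matrix.det_fin_two] at hA
  rw [SymplecticGroup.mem_iff']
  ext (i | i) (j | j) <;> fin_cases i <;> fin_cases j <;>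
    simp [blk, Matrix.J, Matrix.mul_apply, Fintype.sum_sum_type, Fin.sum_univ_two, Matrix.transpose_apply, Matrix.one_apply] <;>
    first | ring1 | linear_combination hA | linear_combination -hA

/-- The transvection. -/
abbrev transv (F : Type*) [CommRing F] : Matrix I4 I4 F := blk 0 0 1 1

theorem blk_eq_of_commute {g : Matrix I4 I4 F} (hg : g ∈ Matrix.symplecticGroup (Fin 2) F)
    (hc : g * transv F = transv F * g) :
    g (.inl 0) (.inl 0) * g (.inl 0) (.inl 0) = 1 ∧
    (g (.inl 0) (.inl 0) = 1 → ∃ (x y c : F) (A : Matrix (Fin 2) (Fin 2) F),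
      A.det = 1 ∧ g = blk x y c A) := by
  have e : ∀ i j, (g * transv F) i j = (transv F * g) i j := fun i j => by rw [hc]
  have s : ∀ i j, (gᵀ * Matrix.J (Fin 2) F * g) i j = Matrix.J (Fin 2) F i j := fun i j => by
    rw [SymplecticGroup.mem_iff'.1 hg]
  have hee := e (.inl 0) (.inr 0)
  have hpe := e (.inl 1) (.inr 0)
  have hfe := e (.inr 0) (.inr 0)
  have hqe := e (.inr 1) (.inr 0)
  have hfp := e (.inl 0) (.inl 1)
  have hfq := e (.inl 0) (.inr 1)
  simp [transv, blk, Matrix.mul_apply, Fintype.sum_sum_type, Fin.sum_univ_two, Matrix.one_apply]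
    at hee hpe hfe hqe hfp hfq
  have sef := s (.inl 0) (.inr 0)
  have spf := s (.inl 1) (.inr 0)
  have sqf := s (.inr 1) (.inr 0)
  have spq := s (.inl 1) (.inr 1)
  simp [Matrix.J, Matrix.mul_apply, Fintype.sum_sum_type, Fin.sum_univ_two, Matrix.transpose_apply, Matrix.one_apply]
    at sef spf sqf spq
  have hff : g (.inr 0) (.inr 0) = g (.inl 0) (.inl 0) := by
    first | linear_combination hee | linear_combination -hee
  rw [hff, hfe, hpe, hqe] at sef
  rw [hff, hfp] at spf
  rw [hff, hfq] at sqf
  rw [hfp, hfq] at spq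
  refine ⟨by linear_combination -sef, fun h1 => ?_⟩
  rw [h1] at spf sqf
  refine ⟨g (.inl 1) (.inr 0), g (.inr 1) (.inr 0), g (.inl 0) (.inr 0),
    !![g (.inl 1) (.inl 1), g (.inl 1) (.inr 1); g (.inr 1) (.inl 1), g (.inr 1) (.inr 1)], ?_, ?_⟩
  · rw [Matrix.det_fin_two_of]; linear_combination -spq
  · ext (i | i) (j | j) <;> fin_cases i <;> fin_cases j <;>
      simp [blk, h1, hff, hfe, hpe, hqe, hfp, hfq] <;>
      first | linear_combination -spf | linear_combination -sqf | linear_combination spf | linear_combination sqf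

end Blk

variable {F : Type*} [Field F] [Fintype F]

theorem exists_sigma (hF : Fintype.card F = 3) : Nonempty (ZMod 3 ≃+* F) := by
  have h3 : (3 : F) = 0 := by
    have := Nat.cast_card_eq_zero F
    rwa [hF, Nat.cast_ofNat] at this
  haveI : Fact (Nat.Prime 3) := ⟨Nat.prime_three⟩
  haveI : CharP F 3 := (CharP.charP_iff_prime_eq_zero Nat.prime_three).2 (by exact_mod_cast h3)
  exact ⟨RingEquiv.ofBijective (ZMod.castHom (dvd_refl 3) F)
    ((Fintype.bijective_iff_injective_and_card _).2
      ⟨(ZMod.castHom (dvd_refl 3) F).injective, by rw [ZMod.card, hF]⟩)⟩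

theorem two_ne : (2 : ZMod 3) ≠ 0 := by decide

/-- The semidirect product. -/
abbrev Model := Heis ⋊[act] SL23

theorem card_model : Nat.card Model = 648 := by
  rw [SemidirectProduct.card, card_heis, Cfsg.Agent.Lib.Linear.card_SL_two, ZMod.card]

instance : Finite Model := Nat.finite_of_card_ne_zero (by rw [card_model]; norm_num)

variable (σ : ZMod 3 ≃+* F)

/-- The embedding in `Sp₄(3)`. -/
def psi : Model →* Matrix.symplecticGroup (Fin 2) F where
  toFun m := ⟨blk (σ m.left.x) (σ m.left.y) (σ m.left.c) (m.right.1.map σ),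
    blk_mem (by rw [← RingEquiv.coe_toRingHom, ← RingHom.mapMatrix_apply, ← RingHom.map_det, m.right.2, map_one])⟩
  map_one' := by
    apply Subtype.ext
    show blk (σ 0) (σ 0) (σ 0) ((1 : Matrix (Fin 2) (Fin 2) (ZMod 3)).map σ) = 1
    rw [map_zero, Matrix.map_one _ (map_zero σ) (map_one σ), blk_one]
  map_mul' m n := by
    apply Subtype.ext
    show _ = blk (σ m.left.x) (σ m.left.y) (σ m.left.c) (m.right.1.map σ) *
      blk (σ n.left.x) (σ n.left.y) (σ n.left.c) (n.right.1.map σ)
    rw [blk_mul (by rw [← RingEquiv.coe_toRingHom, ← RingHom.mapMatrix_apply, ← RingHom.map_det, m.right.2, map_one])]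
    show blk (σ (m.left * act m.right n.left).x) (σ (m.left * act m.right n.left).y)
      (σ (m.left * act m.right n.left).c) ((m.right * n.right).1.map σ) = _
    rw [Matrix.SpecialLinearGroup.coe_mul, Matrix.map_mul]
    simp [act_apply, lin, map_add, map_sub, map_mul]

theorem psi_val (m : Model) :
    (psi σ m : Matrix I4 I4 F) = blk (σ m.left.x) (σ m.left.y) (σ m.left.c) (m.right.1.map σ) := rfl

theorem psi_injective : Function.Injective (psi σ) := by
  intro m n h
  have h' : blk (σ m.left.x) (σ m.left.y) (σ m.left.c) (m.right.1.map σ) =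
      blk (σ n.left.x) (σ n.left.y) (σ n.left.c) (n.right.1.map σ) := congrArg Subtype.val h
  have e : ∀ i j, blk (σ m.left.x) (σ m.left.y) (σ m.left.c) (m.right.1.map σ) i j =
      blk (σ n.left.x) (σ n.left.y) (σ n.left.c) (n.right.1.map σ) i j := fun i j => by rw [h']
  refine SemidirectProduct.ext (Heis.ext ?_ ?_ ?_) (Matrix.SpecialLinearGroup.ext _ _ fun i j => ?_)
  · simpa [blk] using e (.inl 1) (.inr 0)
  · simpa [blk] using e (.inr 1) (.inr 0)
  · simpa [blk] using e (.inl 0) (.inr 0)
  · fin_cases i <;> fin_cases j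
    · simpa [blk] using e (.inl 1) (.inl 1)
    · simpa [blk] using e (.inl 1) (.inr 1)
    · simpa [blk] using e (.inr 1) (.inl 1)
    · simpa [blk] using e (.inr 1) (.inr 1)

/-- The central element. -/
def cz : Model := SemidirectProduct.inl gz

theorem cz_central (m : Model) : Commute m cz := by
  refine SemidirectProduct.ext ?_ (by simp [cz])
  ext <;> simp [cz, act_apply, lin, gz] <;> ring

theorem cz_cube : cz * cz * cz = (1 : Model) := by
  rw [cz, ← map_mul, ← map_mul, show gz * gz * gz = 1 by ext <;> simp [gz] <;> decide, map_one]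

theorem psi_cz : (psi σ cz : Matrix I4 I4 F) = transv F := by
  rw [psi_val]
  simp [cz, gz, transv]

theorem main (hF : Fintype.card F = 3) :
    ∃ (c : Cfsg.PSp 2 F) (S : Sylow 3 (Cfsg.PSp 2 F)), orderOf c = 3 ∧ c ∈ (S : Subgroup (Cfsg.PSp 2 F)) ∧
      c ∈ Subgroup.centralizer ((S : Subgroup (Cfsg.PSp 2 F)) : Set (Cfsg.PSp 2 F)) ∧
      Nonempty (Model ≃* Subgroup.centralizer ({c} : Set (Cfsg.PSp 2 F))) := by
  classical
  haveI : Fact (Nat.Prime 3) := ⟨Nat.prime_three⟩
  obtain ⟨σ⟩ := exists_sigma hF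
  have h2 : (2 : F) ≠ 0 := by
    intro h
    have : σ 2 = σ 0 := by rw [map_ofNat, map_zero, h]
    exact two_ne (σ.injective this)
  let π := QuotientGroup.mk' (Subgroup.center (Matrix.symplecticGroup (Fin 2) F))
  let Φ : Model →* Cfsg.PSp 2 F := π.comp (psi σ)
  have hΦ : Function.Injective Φ := by
    refine (injective_iff_map_eq_one _).2 fun m hm => ?_
    have hm' : psi σ m ∈ Subgroup.center (Matrix.symplecticGroup (Fin 2) F) :=
      (QuotientGroup.eq_one_iff _).1 hm
    rcases Cfsg.Agent.Lib.Symplectic.mem_center_sp_iff.1 hm' with h | h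
    · exact psi_injective σ (by rw [map_one]; exact Subtype.ext h)
    · exfalso
      have := congrFun (congrFun h (.inl 0)) (.inl 0)
      simp [psi_val, blk] at this
      exact h2 (by linear_combination this)
  have hrange : Φ.range = Subgroup.centralizer ({Φ cz} : Set (Cfsg.PSp 2 F)) := by
    refine le_antisymm ?_ ?_
    · rintro _ ⟨m, rfl⟩
      rw [Subgroup.mem_centralizer_singleton_iff, ← map_mul, ← map_mul, (cz_central m).eq]
    · intro gb' hgb'
      obtain ⟨g, rfl⟩ := QuotientGroup.mk_surjective gb'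
      rw [Subgroup.mem_centralizer_singleton_iff] at hgb'
      have hq : (g * psi σ cz)⁻¹ * (psi σ cz * g) ∈ Subgroup.center (Matrix.symplecticGroup (Fin 2) F) :=
        QuotientGroup.eq.1 hgb'
      have hT : (g : Matrix I4 I4 F) * transv F = transv F * g := by
        rcases Cfsg.Agent.Lib.Symplectic.mem_center_sp_iff.1 hq with h | h
        · have h' : (g * psi σ cz) = psi σ cz * g := inv_mul_eq_one.1 (Subtype.ext h)
          have := congrArg Subtype.val h'
          rwa [Submonoid.coe_mul, Submonoid.coe_mul, psi_cz] at this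
        · exfalso
          have h' : psi σ cz * g = (g * psi σ cz) * ((g * psi σ cz)⁻¹ * (psi σ cz * g)) :=
            (mul_inv_cancel_left _ _).symm
          have h2' := congrArg Subtype.val h'
          rw [Submonoid.coe_mul, Submonoid.coe_mul, Submonoid.coe_mul, h, psi_cz, mul_neg,
            mul_one] at h2'
          have hT3 : transv F * transv F * transv F = 1 := by
            rw [← psi_cz σ, ← Submonoid.coe_mul, ← Submonoid.coe_mul, ← map_mul, ← map_mul,
              cz_cube, map_one]
            rfl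
          set T := transv F
          set G : Matrix I4 I4 F := (g : Matrix I4 I4 F)
          have e2 : T * T * G = G * (T * T) := by
            rw [mul_assoc, h2', mul_neg, ← mul_assoc, h2', neg_mul, neg_neg, mul_assoc]
          have hneg : T * T * T * G = -(G * (T * T * T)) := by
            rw [mul_assoc T T T, mul_assoc, e2, ← mul_assoc T G, h2', neg_mul]
            simp only [mul_assoc]
          rw [hT3, one_mul, mul_one] at hneg
          have hz : G = 0 := by
            ext i j
            have e := congrFun (congrFun hneg i) j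
            rw [Matrix.neg_apply] at e
            exact (mul_eq_zero.1 (show (2 : F) * G i j = 0 by linear_combination e)).resolve_left h2
          have := (SymplecticGroup.symplectic_det (g.2)).ne_zero
          rw [show (g : Matrix I4 I4 F) = 0 from hz, Matrix.det_zero] at this
          exact this rfl
      obtain ⟨hl, hblk⟩ := blk_eq_of_commute g.2 hT
      have hfin : ∀ g' : Matrix.symplecticGroup (Fin 2) F, (g' : Matrix I4 I4 F) (.inl 0) (.inl 0) = 1 →
          (∃ (x y c : F) (A : Matrix (Fin 2) (Fin 2) F), A.det = 1 ∧ (g' : Matrix I4 I4 F) = blk x y c A) →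
          g' ∈ (psi σ).range := by
        rintro g' - ⟨x, y, c, A, hA, he⟩
        refine ⟨⟨⟨σ.symm x, σ.symm y, σ.symm c⟩, ⟨A.map σ.symm, ?_⟩⟩, Subtype.ext ?_⟩
        · rw [← RingEquiv.coe_toRingHom, ← RingHom.mapMatrix_apply, ← RingHom.map_det, hA, map_one]
        · rw [psi_val, he]
          simp [Matrix.map_map, Function.comp_def]
      rcases mul_self_eq_one_iff.1 hl with h1 | h1
      · obtain ⟨m, hm⟩ := hfin g h1 (hblk h1)
        exact ⟨m, congrArg π hm⟩
      · let n1 : Matrix.symplecticGroup (Fin 2) F := ⟨-1, SymplecticGroup.neg_mem (one_mem _)⟩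
        have hn1 : n1 ∈ Subgroup.center (Matrix.symplecticGroup (Fin 2) F) :=
          Cfsg.Agent.Lib.Symplectic.mem_center_sp_iff.2 (Or.inr rfl)
        have hval : ((n1 * g : Matrix.symplecticGroup (Fin 2) F) : Matrix I4 I4 F) = -(g : Matrix I4 I4 F) := by
          simp [n1]
        have h1' : ((n1 * g : Matrix.symplecticGroup (Fin 2) F) : Matrix I4 I4 F) (.inl 0) (.inl 0) = 1 := by
          rw [hval, Matrix.neg_apply, h1, neg_neg]
        obtain ⟨-, hblk'⟩ := blk_eq_of_commute (n1 * g).2 (by rw [hval, neg_mul, mul_neg, hT])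
        obtain ⟨m, hm⟩ := hfin _ h1' (hblk' h1')
        refine ⟨m, ?_⟩
        show π (psi σ m) = π g
        rw [hm, map_mul, show π n1 = 1 from (QuotientGroup.eq_one_iff _).2 hn1, one_mul]
  have hcz : orderOf cz = 3 :=
    orderOf_eq_prime (by rw [pow_succ, pow_two]; exact cz_cube) (fun h => by
      have := congrArg (fun m : Model => m.left.c) h
      simp [cz, gz] at this)
  have hcard : (Nat.card (Cfsg.PSp 2 F)).factorization 3 = 4 := by
    have h := Cfsg.Agent.Lib.Symplectic.card_psp (F := F) (q := 3) (by rw [Nat.card_eq_fintype_card, hF])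
      (m := 2) (by norm_num)
    have h' : Nat.card (Cfsg.PSp 2 F) = 3 ^ 4 * 320 := by
      rw [show Nat.gcd 2 (3 - 1) = 2 by rfl] at h
      norm_num [Finset.prod_range_succ] at h ⊢
      omega
    rw [h', Nat.factorization_mul (by norm_num) (by norm_num), Finsupp.add_apply,
      Nat.Prime.factorization_pow Nat.prime_three, Finsupp.single_eq_same,
      Nat.factorization_eq_zero_of_not_dvd (by norm_num : ¬ 3 ∣ 320)]
  let P : Sylow 3 Model := default
  have hP : Nat.card ((P : Subgroup Model).map Φ) = 81 := by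
    rw [Subgroup.card_map_of_injective hΦ, P.card_eq_multiplicity, card_model,
      show (648 : ℕ) = 3 ^ 4 * 8 by norm_num, Nat.factorization_mul (by norm_num) (by norm_num),
      Finsupp.add_apply, Nat.Prime.factorization_pow Nat.prime_three, Finsupp.single_eq_same,
      Nat.factorization_eq_zero_of_not_dvd (by norm_num : ¬ 3 ∣ 8)]
    norm_num
  let S : Sylow 3 (Cfsg.PSp 2 F) := Sylow.ofCard ((P : Subgroup Model).map Φ) (by rw [hP, hcard]; norm_num)
  have hzP : cz ∈ (P : Subgroup Model) := by
    haveI : (Subgroup.zpowers cz).Normal := ⟨fun x hx g => by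
      obtain ⟨k, rfl⟩ := Subgroup.mem_zpowers_iff.1 hx
      rw [((cz_central g).zpow_right k).eq, mul_inv_cancel_right]
      exact hx⟩
    have hp : IsPGroup 3 (Subgroup.zpowers cz) :=
      IsPGroup.of_card (n := 1) (by rw [Nat.card_zpowers, hcz, pow_one])
    exact P.3 (P.2.to_sup_of_normal_right hp) le_sup_left ▸ Subgroup.mem_sup_right (Subgroup.mem_zpowers cz)
  refine ⟨Φ cz, S, by rw [orderOf_injective Φ hΦ, hcz], Subgroup.mem_map_of_mem Φ hzP, ?_,
    ⟨(MonoidHom.ofInjective hΦ).trans (MulEquiv.subgroupCongr hrange)⟩⟩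
  rintro _ ⟨m, -, rfl⟩
  rw [← map_mul, ← map_mul, (cz_central m).eq]

end Cfsg.Agent.Lib.HeisSL23
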