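import Cfsg.Prelude.Def_Transfer
import Cfsg.Agent.Lib.HeisSL23.Symplectic
import Cfsg.Agent.Lib.PSolvable.Basic

/-!
Recognition of `3^{1+2}_+ ⋊ SL₂(3)`.
-/

set_option autoImplicit false

namespace Cfsg.Agent.Lib.HeisSL23

open Matrix
open scoped Pointwise

theorem card_SL23 : Nat.card SL23 = 24 := by
  rw [Cfsg.Agent.Lib.Linear.card_SL_two, ZMod.card]

theorem inv_is {c : ZMod 3} : c ≠ 0 → c * c = 1 := by revert c; decide

/-- A subgroup containing all squares is everything. -/
theorem eq_top_of_squares (S : Subgroup SL23) (hS : ∀ g : SL23, g * g ∈ S) : S = ⊤ := by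
  let U : ZMod 3 → SL23 := fun x => ⟨!![1, x; 0, 1], by simp [Matrix.det_fin_two]⟩
  let L : ZMod 3 → SL23 := fun x => ⟨!![1, 0; x, 1], by simp [Matrix.det_fin_two]⟩
  have hU : ∀ x, U x ∈ S := fun x => by
    convert hS (U (2 * x)) using 1
    ext i j
    rw [Matrix.SpecialLinearGroup.coe_mul]
    fin_cases i <;> fin_cases j <;> simp [U, Matrix.mul_apply, Fin.sum_univ_two]
    have h3 : (3 : ZMod 3) = 0 := rfl
    linear_combination -x * h3
  have hL : ∀ x, L x ∈ S := fun x => by
    convert hS (L (2 * x)) using 1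
    ext i j
    rw [Matrix.SpecialLinearGroup.coe_mul]
    fin_cases i <;> fin_cases j <;> simp [L, Matrix.mul_apply, Fin.sum_univ_two]
    have h3 : (3 : ZMod 3) = 0 := rfl
    linear_combination -x * h3
  have hne : ∀ g : SL23, g.1 1 0 ≠ 0 → g ∈ S := by
    intro g hg
    have hgc := inv_is hg
    have hd : g.1 0 0 * g.1 1 1 - g.1 0 1 * g.1 1 0 = 1 := by rw [← Matrix.det_fin_two]; exact g.2
    have : g = U ((g.1 0 0 - 1) * g.1 1 0) * L (g.1 1 0) * U ((g.1 1 1 - 1) * g.1 1 0) := by
      ext i j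
      rw [Matrix.SpecialLinearGroup.coe_mul, Matrix.SpecialLinearGroup.coe_mul]
      fin_cases i <;> fin_cases j <;> simp [U, L, Matrix.mul_apply, Fin.sum_univ_two]
      · linear_combination (-(g.1 0 0 - 1)) * hgc
      · linear_combination (-g.1 1 0) * hd +
          (-g.1 0 1 - (g.1 0 0 - 1) * (g.1 1 1 - 1) * g.1 1 0) * hgc
      · linear_combination (-(g.1 1 1 - 1)) * hgc
    rw [this]
    exact mul_mem (mul_mem (hU _) (hL _)) (hU _)
  refine eq_top_iff.2 fun g _ => ?_
  by_cases hg : g.1 1 0 = 0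
  · have h : L 1 * g ∈ S := hne _ (by
      have hd : g.1 0 0 * g.1 1 1 - g.1 0 1 * g.1 1 0 = 1 := by rw [← Matrix.det_fin_two]; exact g.2
      intro h
      rw [Matrix.SpecialLinearGroup.coe_mul] at h
      simp [L, Matrix.mul_apply, Fin.sum_univ_two, hg] at h
      rw [h, hg] at hd
      simp at hd)
    simpa using mul_mem (inv_mem (hL 1)) h
  · exact hne g hg

theorem sq_one_cases : ∀ a b c d : ZMod 3, a * d - b * c = 1 → a * a + b * c = 1 → a * b + b * d = 0 →
    c * a + d * c = 0 → c * b + d * d = 1 → (a = 1 ∧ b = 0 ∧ c = 0 ∧ d = 1) ∨ (a = -1 ∧ b = 0 ∧ c = 0 ∧ d = -1) := by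
  decide

theorem omega_zero : ∀ a b c d : ZMod 3, (a ≠ 0 ∨ b ≠ 0) → a * d - b * c = 0 → ∃ k, c = k * a ∧ d = k * b := by
  decide

theorem double_zero : ∀ t : ZMod 3, t + t = 0 → t = 0 := by decide

theorem neg_one_ne : (-1 : ZMod 3) ≠ 1 := by decide

theorem pow_four_of_pow_eight : ∀ x : SL23, x ^ 8 = 1 → x ^ 4 = 1 := by decide +kernel

theorem card_pow_four : Fintype.card {x : SL23 // x ^ 4 = 1} = 8 := by decide +kernel

theorem exists_neg_one : ∀ g : SL23, g ≠ 1 → ∃ h : SL23,
    g.1 = -1 ∨ (g * g).1 = -1 ∨ (g * g * g).1 = -1 ∨ (g * h * g⁻¹ * h⁻¹).1 = -1 ∨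
      (g * h * g⁻¹ * h⁻¹ * (g * h * g⁻¹ * h⁻¹)).1 = -1 := by
  decide +kernel

theorem linear_part (α : MulAut Heis) (hz : α gz = gz) :
    ∃ A : SL23, ∀ h, (α h).x = (lin A.1 h).x ∧ (α h).y = (lin A.1 h).y := by
  have hrel := congrArg α gb_mul_ga
  rw [map_mul, map_mul, map_mul, hz] at hrel
  have hc := congrArg Heis.c hrel
  simp [gz] at hc
  let A : Matrix (Fin 2) (Fin 2) (ZMod 3) := !![(α ga).x, (α gb).x; (α ga).y, (α gb).y]
  have hdet : A.det = 1 := by
    rw [Matrix.det_fin_two]
    simp [A]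
    have h3 : (3 : ZMod 3) = 0 := rfl
    linear_combination hc + ((α ga).x * (α gb).y - (α gb).x * (α ga).y) * h3
  refine ⟨⟨A, hdet⟩, fun h => ?_⟩
  show _ = (lin A h).x ∧ _ = (lin A h).y
  conv => lhs; lhs; rw [heis_eq h]
  conv => rhs; lhs; rw [heis_eq h]
  rw [map_mul, map_mul, map_pow, map_pow, map_pow, hz, pow_eq, pow_eq, pow_eq]
  constructor <;> simp [lin, A, gz] <;> ring

/-- Two automorphisms fixing the centre that agree on the generators are equal. -/
theorem aut_ext {α β : MulAut Heis} (hz : α gz = β gz) (ha : α ga = β ga) (hb : α gb = β gb) : α = β := by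
  refine MulEquiv.ext fun h => ?_
  rw [heis_eq h]
  simp only [map_mul, map_pow, hz, ha, hb]

variable {X : Type*} [Group X] [Finite X]

theorem model_iso (hR : Cfsg.IsExtraspecial 3 (Cfsg.pCore 3 X)) (hRcard : Nat.card (Cfsg.pCore 3 X) = 27)
    (hRexp : ∀ r ∈ Cfsg.pCore 3 X, r ^ 3 = 1)
    (e : X ⧸ Cfsg.pCore 3 X ≃* SL23)
    (hO2 : Cfsg.pCore 2 X = ⊥)
    (hE : ∃ E : Subgroup X, IsMulCommutative E ∧ (∀ a ∈ E, a ^ 3 = 1) ∧ Nat.card E = 27) :
    Nonempty (Model ≃* X) := by
  classical
  haveI : Fact (Nat.Prime 3) := ⟨Nat.prime_three⟩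
  haveI : Fact (Nat.Prime 2) := ⟨Nat.prime_two⟩
  set R := Cfsg.pCore 3 X with hRdef
  haveI hRn : R.Normal := Cfsg.Agent.Lib.PSolvable.pCore_normal'
  let q : X →* SL23 := e.toMonoidHom.comp (QuotientGroup.mk' R)
  have hqs : Function.Surjective q := e.surjective.comp (QuotientGroup.mk'_surjective R)
  have hqR : ∀ x, q x = 1 ↔ x ∈ R := fun x => by
    show e (QuotientGroup.mk x) = 1 ↔ _
    rw [EmbeddingLike.map_eq_one_iff, QuotientGroup.eq_one_iff]
  have hXcard : Nat.card X = 648 := by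
    rw [Subgroup.card_eq_card_quotient_mul_card_subgroup R, hRcard, Nat.card_congr e.toEquiv, card_SL23]
  have hcube : ∀ r : R, r ^ 3 = 1 := fun r => Subtype.ext (hRexp r.1 r.2)
  -- generators of `R`
  have hZc : Nat.card (Subgroup.center R) = 3 := hR.2
  obtain ⟨a, b, hab⟩ : ∃ a b : R, a * b ≠ b * a := by
    by_contra! h
    have : Subgroup.center R = ⊤ := eq_top_iff.2 fun g _ => Subgroup.mem_center_iff.2 fun k => h k g
    rw [this, Subgroup.card_top, hRcard] at hZc
    omega
  have hcomm : ∀ x y : R, (x * y)⁻¹ * (y * x) ∈ Subgroup.center R := by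
    intro x y
    have hq : Nat.card (R ⧸ Subgroup.center R) = 3 ^ 2 := by
      have := Subgroup.card_eq_card_quotient_mul_card_subgroup (Subgroup.center R)
      rw [hRcard, hZc] at this
      omega
    refine QuotientGroup.eq.1 ?_
    show (QuotientGroup.mk (x * y) : R ⧸ Subgroup.center R) = QuotientGroup.mk (y * x)
    rw [QuotientGroup.mk_mul, QuotientGroup.mk_mul]
    exact IsPGroup.commutative_of_card_eq_prime_sq hq _ _
  set z : R := (a * b)⁻¹ * (b * a) with hzdef
  have hba : b * a = a * b * z := by rw [hzdef, mul_inv_cancel_left]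
  have hz1 : z ≠ 1 := fun h => hab (by rw [hba, h, mul_one])
  have hzc : ∀ r : R, Commute z r := fun r => (Subgroup.mem_center_iff.1 (hcomm a b) r).symm
  have hzo : orderOf z = 3 := orderOf_eq_prime (hcube z) hz1
  -- coordinates
  have mk_iso : ∀ a b z : R, ∀ (_ : b * a = a * b * z) (_ : z ≠ 1) (hza : Commute z a) (hzb : Commute z b),
      ∃ φ : Heis ≃* R, φ ga = a ∧ φ gb = b ∧ φ gz = z := by
    intro a b z hba hz1 hza hzb
    let f := lift (hcube a) (hcube b) (hcube z) hba hza hzb
    have hsq : ∀ (r : R) (x : ZMod 3), x ≠ 0 → r = (r ^ x.val) ^ x.val := fun r x hx => by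
      rw [← pow_mul, ← pow_val_mul (hcube r), inv_is hx]
      exact (pow_one r).symm
    have hab : a * b ≠ b * a := fun h => hz1 (by rw [hba] at h; exact mul_eq_left.1 h.symm)
    have hinj : Function.Injective f := by
      refine (injective_iff_map_eq_one _).2 fun h hh => ?_
      rw [lift_apply] at hh
      have hx : h.x = 0 := by
        by_contra hx
        apply hab
        have hc : Commute (a ^ h.x.val) b := by
          rw [show a ^ h.x.val = (b ^ h.y.val * z ^ (h.c - h.x * h.y).val)⁻¹ from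
            eq_inv_of_mul_eq_one_left (by rw [← mul_assoc]; exact hh)]
          exact (((Commute.refl b).pow_left _).mul_left (hzb.pow_left _)).inv_left
        have := hc.pow_left h.x.val
        rw [← hsq a _ hx] at this
        exact this.eq
      rw [hx, ZMod.val_zero, pow_zero, one_mul, zero_mul, sub_zero] at hh
      have hy : h.y = 0 := by
        by_contra hy
        apply hab
        have hc : Commute a (b ^ h.y.val) := by
          rw [eq_inv_of_mul_eq_one_left hh]
          exact ((hza.symm).pow_right _).inv_right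
        have := hc.pow_right h.y.val
        rw [← hsq b _ hy] at this
        exact this.eq
      rw [hy, ZMod.val_zero, pow_zero, one_mul] at hh
      have hc : h.c = 0 := by
        by_contra hc
        apply hz1
        rw [hsq z _ hc, hh, one_pow]
      exact Heis.ext hx hy hc
    have hbij : Function.Bijective f :=
      (Nat.bijective_iff_injective_and_card _).2 ⟨hinj, by rw [card_heis, hRcard]⟩
    refine ⟨MulEquiv.ofBijective f hbij, ?_, ?_, ?_⟩
    · show f ga = a
      rw [lift_apply]; simp [ga, ZMod.val_one]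
    · show f gb = b
      rw [lift_apply]; simp [gb, ZMod.val_one]
    · show f gz = z
      rw [lift_apply]; simp [gz, ZMod.val_one]
  obtain ⟨φ₀, -, -, hφ₀z⟩ := mk_iso a b z hba hz1 (hzc a) (hzc b)
  -- the centre is central in `X`
  have hZgen : ∀ u ∈ Subgroup.center R, u = 1 ∨ u = z ∨ u = z⁻¹ := by
    intro u hu
    have : Subgroup.zpowers z = Subgroup.center R :=
      Subgroup.eq_of_le_of_card_ge (Subgroup.zpowers_le.2 (hcomm a b))
        (by rw [hZc, Nat.card_zpowers, hzo])
    rw [← this, ← mem_powers_iff_mem_zpowers, Submonoid.mem_powers_iff] at hu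
    obtain ⟨k, rfl⟩ := hu
    rw [pow_eq_pow_mod k (hcube z)]
    rcases (show k % 3 = 0 ∨ k % 3 = 1 ∨ k % 3 = 2 by omega) with h | h | h <;> rw [h]
    · exact Or.inl (pow_zero _)
    · exact Or.inr (Or.inl (pow_one _))
    · exact Or.inr (Or.inr (eq_inv_of_mul_eq_one_left (by rw [← pow_succ]; exact hcube z)))
  have hzX : ∀ x : X, x * z.1 * x⁻¹ = z.1 := by
    let C : Subgroup X := Subgroup.centralizer {z.1}
    have hconj : ∀ x : X, MulAut.conjNormal x z = z ∨ MulAut.conjNormal x z = (z⁻¹ : R) := by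
      intro x
      have hm : MulAut.conjNormal x z ∈ Subgroup.center R := by
        rw [Subgroup.mem_center_iff]
        intro r
        obtain ⟨r', rfl⟩ := (MulAut.conjNormal (H := R) x).surjective r
        rw [← map_mul, ← map_mul, (hzc r').eq]
      rcases hZgen _ hm with h | h | h
      · exact absurd ((map_eq_one_iff _ (MulAut.conjNormal (H := R) x).injective).1 h) hz1
      · exact Or.inl h
      · exact Or.inr h
    have hC : C.map q = ⊤ := eq_top_of_squares _ fun g => by
      obtain ⟨x, rfl⟩ := hqs g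
      refine ⟨x * x, ?_, map_mul q x x⟩
      have h : MulAut.conjNormal (x * x) z = z := by
        rw [show MulAut.conjNormal (H := R) (x * x) = MulAut.conjNormal x * MulAut.conjNormal x from map_mul _ x x,
          MulAut.mul_apply]
        rcases hconj x with h | h <;> rw [h]
        · exact h
        · rw [map_inv, h, inv_inv]
      show x * x ∈ Subgroup.centralizer {z.1}
      rw [Subgroup.mem_centralizer_singleton_iff]
      have := congrArg Subtype.val h
      rw [MulAut.conjNormal_apply] at this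
      exact mul_inv_eq_iff_eq_mul.1 this
    intro x
    obtain ⟨c, hc, hcx⟩ : q x ∈ C.map q := hC ▸ Subgroup.mem_top _
    have hr : c⁻¹ * x ∈ R := (hqR _).1 (by rw [map_mul, map_inv, hcx, inv_mul_cancel])
    have h1 : (c⁻¹ * x) * z.1 = z.1 * (c⁻¹ * x) :=
      (congrArg Subtype.val (hzc ⟨_, hr⟩).eq).symm
    have hcz : c * z.1 = z.1 * c := Subgroup.mem_centralizer_singleton_iff.1 hc
    rw [mul_inv_eq_iff_eq_mul]
    calc x * z.1 = c * ((c⁻¹ * x) * z.1) := by group
      _ = c * z.1 * (c⁻¹ * x) := by rw [h1, mul_assoc]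
      _ = z.1 * x := by rw [hcz]; group
  -- an involution over the centre of the quotient
  have hneg : ∃ g : SL23, g.1 = -1 := ⟨⟨-1, by simp [Matrix.det_neg]⟩, rfl⟩
  obtain ⟨m1, hm1⟩ := hneg
  have hm2 : m1 * m1 = 1 := Subtype.ext (by
    rw [Matrix.SpecialLinearGroup.coe_mul, hm1, neg_mul_neg, one_mul]; rfl)
  have hm1ne : m1 ≠ 1 := fun h => by
    have := congrArg (fun g : SL23 => g.1 0 0) h
    simp [hm1] at this
    exact neg_one_ne this
  have hm1c : ∀ g : SL23, g * m1 = m1 * g := fun g => Subtype.ext (by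
    simp [hm1])
  obtain ⟨x₀, hx₀⟩ := hqs m1
  let j := x₀ ^ 3
  have hqj : q j = m1 := by
    rw [map_pow, hx₀, pow_succ, pow_two, hm2, one_mul]
  have hj2 : j * j = 1 := by
    have h : x₀ ^ 2 ∈ R := (hqR _).1 (by rw [map_pow, hx₀, pow_two, hm2])
    have := hRexp _ h
    rw [← pow_mul] at this
    rw [← pow_add]
    exact this
  have hjinv : j⁻¹ = j := inv_eq_of_mul_eq_one_right hj2
  have hjR : j ∉ R := fun h => hm1ne (hqj ▸ (hqR j).2 h)
  -- the action on `R`
  let act₀ : ∀ φ : Heis ≃* R, X →* MulAut Heis := fun φ =>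
    (MulAut.congr φ.symm).toMonoidHom.comp (MulAut.conjNormal (H := R))
  have hact : ∀ (φ : Heis ≃* R) (x : X) (h : Heis), ((φ (act₀ φ x h) : R) : X) = x * (φ h).1 * x⁻¹ := by
    intro φ x h
    show ((φ (φ.symm (MulAut.conjNormal x (φ h))) : R) : X) = _
    rw [MulEquiv.apply_symm_apply, MulAut.conjNormal_apply]
  have hactz : ∀ (φ : Heis ≃* R), φ gz = z → ∀ x, act₀ φ x gz = gz := by
    intro φ hφ x
    apply φ.injective
    apply Subtype.ext
    rw [hact, hφ, hzX]
  -- `j` is `-1` on `R` modulo the centre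
  have hjlin : ∀ h, (act₀ φ₀ j h).x = -h.x ∧ (act₀ φ₀ j h).y = -h.y := by
    obtain ⟨A, hA⟩ := linear_part _ (hactz φ₀ hφ₀z j)
    have hinv : ∀ h, act₀ φ₀ j (act₀ φ₀ j h) = h := fun h => by
      rw [← MulAut.mul_apply, ← map_mul, hj2, map_one, MulAut.one_apply]
    have e1 := hA (act₀ φ₀ j ga)
    have e2 := hA (act₀ φ₀ j gb)
    rw [hinv] at e1 e2
    obtain ⟨e1x, e1y⟩ := e1
    obtain ⟨e2x, e2y⟩ := e2
    simp only [lin] at e1x e1y e2x e2y
    rw [(hA ga).1, (hA ga).2] at e1x e1y
    rw [(hA gb).1, (hA gb).2] at e2x e2y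
    simp [lin, ga, gb] at e1x e1y e2x e2y
    have hd : A.1 0 0 * A.1 1 1 - A.1 0 1 * A.1 1 0 = 1 := by rw [← Matrix.det_fin_two]; exact A.2
    rcases sq_one_cases _ _ _ _ hd e1x.symm e2x.symm e1y.symm e2y.symm with ⟨h00, h01, h10, h11⟩ | ⟨h00, h01, h10, h11⟩
    · exfalso
      have htriv : ∀ g, (act₀ φ₀ j g).x = g.x ∧ (act₀ φ₀ j g).y = g.y := fun g => by
        rw [(hA g).1, (hA g).2]; simp [lin, h00, h01, h10, h11]
      have hfix : ∀ g, act₀ φ₀ j g = g := by
        intro g
        set k := (act₀ φ₀ j g).c - g.c with hk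
        have hg : act₀ φ₀ j g = g * ⟨0, 0, k⟩ := by
          ext <;> simp [(htriv g).1, (htriv g).2, hk]
        have hz' : act₀ φ₀ j ⟨0, 0, k⟩ = ⟨0, 0, k⟩ := by
          have : (⟨0, 0, k⟩ : Heis) = gz ^ k.val := by rw [pow_eq]; simp [gz]
          rw [this, map_pow, hactz φ₀ hφ₀z j]
        have h2' := hinv g
        rw [hg, map_mul, hg, hz', mul_assoc] at h2'
        have := congrArg Heis.c (mul_eq_left.1 h2')
        simp at this
        rw [hg, double_zero k this]
        ext <;> simp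
      have hcentR : ∀ r ∈ R, j * r = r * j := by
        intro r hr
        obtain ⟨g, hg⟩ := φ₀.surjective ⟨r, hr⟩
        have := hact φ₀ j g
        rw [hfix g, hg] at this
        exact (eq_mul_inv_iff_mul_eq.1 this).symm
      have hjc : ∀ g : X, g * j * g⁻¹ = j := by
        intro g
        have hr : j⁻¹ * (g * j * g⁻¹) ∈ R := (hqR _).1 (by
          rw [map_mul, map_mul, map_mul, map_inv, map_inv, hqj, hm1c, mul_inv_cancel_right, inv_mul_cancel])
        have hsq : (g * j * g⁻¹) * (g * j * g⁻¹) = 1 := by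
          rw [show (g * j * g⁻¹) * (g * j * g⁻¹) = g * (j * j) * g⁻¹ by group, hj2]; group
        set r := j⁻¹ * (g * j * g⁻¹) with hrdef
        have hgr : g * j * g⁻¹ = j * r := by rw [hrdef, mul_inv_cancel_left]
        rw [hgr] at hsq ⊢
        have hr2 : r * r = 1 := by
          have e : j * r * (j * r) = j * j * (r * r) := by
            rw [mul_assoc, ← mul_assoc r, ← hcentR r hr, mul_assoc j r, mul_assoc j j]
          rw [e, hj2, one_mul] at hsq
          exact hsq
        have hr1 : r = 1 := by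
          have h3 := hRexp r hr
          rwa [pow_succ, pow_two, hr2, one_mul] at h3
        rw [hr1, mul_one]
      have hn : (Subgroup.zpowers j).Normal := ⟨fun x hx g => by
        obtain ⟨k, rfl⟩ := Subgroup.mem_zpowers_iff.1 hx
        rw [← conj_zpow, hjc g]
        exact hx⟩
      have hj1 : j ≠ 1 := fun h => hjR (h ▸ one_mem R)
      have hp : IsPGroup 2 (Subgroup.zpowers j) := IsPGroup.of_card (n := 1)
        (by rw [Nat.card_zpowers, pow_one, orderOf_eq_prime (by rw [pow_two]; exact hj2) hj1])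
      have := Cfsg.Agent.Lib.PSolvable.le_pCore hn hp (Subgroup.mem_zpowers j)
      rw [hO2, Subgroup.mem_bot] at this
      exact hj1 this
    · intro g
      rw [(hA g).1, (hA g).2]; simp [lin, h00, h01, h10, h11]
  -- better coordinates
  have hfix2 : ∀ g : Heis, ∃ t, g.x = t.x ∧ g.y = t.y ∧ act₀ φ₀ j t = t⁻¹ := by
    intro g
    set ℓ := (act₀ φ₀ j g).c + g.c
    have hg : act₀ φ₀ j g = g⁻¹ * ⟨0, 0, ℓ⟩ := by
      ext <;> simp [(hjlin g).1, (hjlin g).2, ℓ]
    have hzℓ : act₀ φ₀ j ⟨0, 0, ℓ⟩ = ⟨0, 0, ℓ⟩ := by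
      have : (⟨0, 0, ℓ⟩ : Heis) = gz ^ ℓ.val := by rw [pow_eq]; simp [gz]
      rw [this, map_pow, hactz φ₀ hφ₀z j]
    refine ⟨g * ⟨0, 0, ℓ⟩, by simp, by simp, ?_⟩
    rw [map_mul, hg, hzℓ]
    ext <;> simp
    have h3 : (3 : ZMod 3) = 0 := rfl
    linear_combination ℓ * h3
  obtain ⟨a₁, ha₁x, ha₁y, ha₁⟩ := hfix2 ga
  obtain ⟨b₁, hb₁x, hb₁y, hb₁⟩ := hfix2 gb
  have hrel : φ₀ b₁ * φ₀ a₁ = φ₀ a₁ * φ₀ b₁ * z := by
    rw [← hφ₀z, ← map_mul, ← map_mul, ← map_mul]
    congr 1
    ext <;> simp [← ha₁x, ← ha₁y, ← hb₁x, ← hb₁y, ga, gb, gz]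
    have h3 : (3 : ZMod 3) = 0 := rfl
    linear_combination -h3
  obtain ⟨φ, hφa, hφb, hφz⟩ := mk_iso _ _ z hrel hz1 (hzc _) (hzc _)
  let α := act₀ φ
  have hαj : α j = negAut := by
    refine aut_ext ?_ ?_ ?_
    · rw [hactz φ hφz j]; ext <;> simp [negAut, gz] <;> rfl
    · rw [show negAut ga = ga⁻¹ by ext <;> simp [negAut, ga] <;> rfl]
      apply φ.injective
      apply Subtype.ext
      rw [hact, map_inv, hφa, ← hact φ₀ j a₁, ha₁, map_inv]
    · rw [show negAut gb = gb⁻¹ by ext <;> simp [negAut, gb] <;> rfl]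
      apply φ.injective
      apply Subtype.ext
      rw [hact, map_inv, hφb, ← hact φ₀ j b₁, hb₁, map_inv]
  -- the centraliser of `j`
  let N : Subgroup X := Subgroup.centralizer {j}
  have hN : ∀ {x}, x ∈ N ↔ x * j = j * x := fun {x} => Subgroup.mem_centralizer_singleton_iff
  have hcover : ∀ g : X, ∃ r ∈ R, r⁻¹ * g ∈ N := by
    intro g
    have hr : j⁻¹ * (g * j * g⁻¹) ∈ R := (hqR _).1 (by
      rw [map_mul, map_mul, map_mul, map_inv, map_inv, hqj, hm1c, mul_inv_cancel_right, inv_mul_cancel])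
    set r := j⁻¹ * (g * j * g⁻¹) with hrdef
    have hgr : g * j = j * r * g := by
      rw [hrdef, mul_inv_cancel_left, inv_mul_cancel_right]
    have hsq : j * r * (j * r) = 1 := by
      have : j * r = g * j * g⁻¹ := by rw [hrdef, mul_inv_cancel_left]
      rw [this, show g * j * g⁻¹ * (g * j * g⁻¹) = g * (j * j) * g⁻¹ by group, hj2]; group
    have hjrj : j * r * j = r⁻¹ := eq_inv_of_mul_eq_one_left (by rw [mul_assoc]; exact hsq)
    have hrjr : r * j * r = j := by
      have e : j * (r * j * r) = 1 := by rw [← hsq]; simp only [mul_assoc]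
      rw [← inv_eq_of_mul_eq_one_right e, hjinv]
    have h3 : r * (r * r) = 1 := by
      have := hRexp r hr
      rwa [pow_succ, pow_two, mul_assoc] at this
    refine ⟨r, hr, hN.2 ?_⟩
    have e : r⁻¹ * j * r = j * r⁻¹ * (r * r * r) := by
      rw [show r⁻¹ * j * r = r⁻¹ * r⁻¹ * (r * j * r) by group, hrjr]
      have : r⁻¹ * r⁻¹ = r := by
        rw [← _root_.mul_inv_rev]; exact inv_eq_of_mul_eq_one_left (by rw [← mul_assoc, mul_assoc]; exact h3)
      rw [this, mul_assoc r r r, h3, mul_one]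
      rw [← hjrj, ← mul_assoc, ← mul_assoc, hj2, one_mul]
    calc r⁻¹ * g * j = r⁻¹ * (j * r * g) := by rw [mul_assoc, hgr]
      _ = (r⁻¹ * j * r) * g := by group
      _ = j * (r⁻¹ * g) := by rw [e, mul_assoc r r r, h3, mul_one, mul_assoc]
  have hαN : ∀ x ∈ N, ∀ h, α x (negAut h) = negAut (α x h) := by
    intro x hx h
    rw [← hαj, ← MulAut.mul_apply, ← MulAut.mul_apply, ← map_mul, ← map_mul, hN.1 hx]
  have hexA : ∀ x ∈ N, ∃ A, α x = act A := fun x hx => exists_act _ (hactz φ hφz x) (hαN x hx)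
  -- an element of order three in `N` from the elementary abelian subgroup
  obtain ⟨n, hnN, hn3, hqn⟩ : ∃ n ∈ N, n ^ 3 = 1 ∧ q n ≠ 1 := by
    obtain ⟨E, hEc, hE3, hEcard⟩ := hE
    have hEcomm : ∀ u ∈ E, ∀ v ∈ E, u * v = v * u := fun u hu v hv =>
      congrArg Subtype.val (hEc.is_comm.comm ⟨u, hu⟩ ⟨v, hv⟩)
    obtain ⟨e₀, he₀E, he₀R⟩ : ∃ e₀ ∈ E, e₀ ∉ R := by
      by_contra! h
      have hER : E = R := Subgroup.eq_of_le_of_card_ge h (by rw [hEcard, hRcard])
      exact hab (Subtype.ext (hEcomm _ (hER ▸ a.2) _ (hER ▸ b.2)))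
    let qE := q.comp E.subtype
    have hker : 9 ≤ Nat.card qE.ker := by
      have h := qE.ker.card_mul_index
      rw [Subgroup.index_ker, hEcard] at h
      have h24 : Nat.card qE.range ∣ 24 := card_SL23 ▸ Subgroup.card_subgroup_dvd_card _
      have h27 : Nat.card qE.range ∣ 27 := Dvd.intro_left _ h
      have h3 : Nat.card qE.range ∣ 3 := by
        have := Nat.dvd_gcd h24 h27
        rwa [show Nat.gcd 24 27 = 3 by norm_num] at this
      have := Nat.le_of_dvd (by norm_num) h3
      nlinarith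
    -- a non-central element of `E ∩ R`
    obtain ⟨u, huE, hu⟩ : ∃ u : Heis, (φ u).1 ∈ E ∧ (u.x ≠ 0 ∨ u.y ≠ 0) := by
      by_contra! h
      have hle : Nat.card qE.ker ≤ Nat.card (Subgroup.center R) := by
        refine Nat.card_le_card_of_injective (fun w : qE.ker =>
          (⟨⟨w.1.1, (hqR _).1 w.2⟩, ?_⟩ : Subgroup.center R)) ?_
        · obtain ⟨t, ht⟩ := φ.surjective ⟨w.1.1, (hqR _).1 w.2⟩
          rw [← ht]
          obtain ⟨hx, hy⟩ := h t (by rw [ht]; exact w.1.2)
          rw [Subgroup.mem_center_iff]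
          intro g
          obtain ⟨g, rfl⟩ := φ.surjective g
          rw [← map_mul, ← map_mul]
          congr 1
          ext <;> simp [hx, hy] <;> ring
        · intro v w hvw
          exact Subtype.ext (Subtype.ext (congrArg (fun t : Subgroup.center R => (t.1.1 : X)) hvw))
      omega
    set u₀ : Heis := ⟨u.x, u.y, 0⟩ with hu₀
    -- the centre lies in `E`
    have hzE : z.1 ∈ E := by
      by_contra hzE
      let m : qE.ker × Subgroup.zpowers z → R := fun w => ⟨w.1.1.1, (hqR _).1 w.1.2⟩ * w.2.1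
      have hm : Function.Injective m := by
        rintro ⟨v, s⟩ ⟨w, t⟩ hvw
        have hval : v.1.1 * s.1.1 = w.1.1 * t.1.1 := congrArg Subtype.val hvw
        have hst : t.1.1 * s.1.1⁻¹ ∈ E := by
          rw [show t.1.1 * s.1.1⁻¹ = w.1.1⁻¹ * v.1.1 by
            rw [mul_inv_eq_iff_eq_mul, mul_assoc, hval, inv_mul_cancel_left]]
          exact mul_mem (inv_mem w.1.2) v.1.2
        have hd : t * s⁻¹ = 1 := by
          by_contra hne
          apply hzE
          rcases hZgen _ ((Subgroup.zpowers_le.2 (hcomm a b)) (t * s⁻¹).2) with e' | e' | e'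
          · exact absurd (Subtype.ext e') hne
          · have : t.1.1 * s.1.1⁻¹ = z.1 := congrArg Subtype.val e'
            rwa [this] at hst
          · have : t.1.1 * s.1.1⁻¹ = z.1⁻¹ := congrArg Subtype.val e'
            rw [this] at hst
            exact inv_mem_iff.1 hst
        have hts : t = s := mul_inv_eq_one.1 hd
        rw [hts] at hval
        exact Prod.ext (Subtype.ext (Subtype.ext (mul_right_cancel hval))) hts.symm
      have hbij : Function.Bijective m := (Nat.bijective_iff_injective_and_card _).2 ⟨hm, by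
        have := Nat.card_le_card_of_injective m hm
        rw [Nat.card_prod, Nat.card_zpowers, hzo, hRcard] at this ⊢
        omega⟩
      apply hab
      obtain ⟨⟨v, s⟩, hv⟩ := hbij.2 a
      obtain ⟨⟨w, t⟩, hw⟩ := hbij.2 b
      have hs : ∀ r : R, Commute s.1 r := fun r =>
        (Subgroup.mem_center_iff.1 ((Subgroup.zpowers_le.2 (hcomm _ _)) s.2) r).symm
      have ht : ∀ r : R, Commute t.1 r := fun r =>
        (Subgroup.mem_center_iff.1 ((Subgroup.zpowers_le.2 (hcomm _ _)) t.2) r).symm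
      show Commute a b
      rw [← hv, ← hw]
      refine Commute.mul_left ?_ (hs _)
      exact Commute.mul_right (Subtype.ext (hEcomm _ v.1.2 _ w.1.2)) (ht _).symm
    have hgzE : ∀ k : ZMod 3, (φ ⟨0, 0, k⟩).1 ∈ E := fun k => by
      rw [show (⟨0, 0, k⟩ : Heis) = gz ^ k.val by rw [pow_eq]; simp [gz], map_pow, hφz, Subgroup.coe_pow]
      exact pow_mem hzE _
    have hu₀E : (φ u₀).1 ∈ E := by
      rw [show u₀ = u * ⟨0, 0, -u.c⟩ by ext <;> simp [hu₀], map_mul, Subgroup.coe_mul]
      exact mul_mem huE (hgzE _)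
    obtain ⟨r, hr, hrn⟩ := hcover e₀
    refine ⟨r⁻¹ * e₀, hrn, ?_, ?_⟩
    swap
    · rw [map_mul, map_inv, (hqR r).2 hr, inv_one, one_mul]
      exact fun h => he₀R ((hqR _).1 h)
    apply hE3
    refine mul_mem (inv_mem ?_) he₀E
    obtain ⟨w, hw⟩ := φ.surjective ⟨r, hr⟩
    -- `r` commutes with `u₀` modulo an element fixed by `j`
    have hfx : α (r⁻¹ * e₀) u₀ = w⁻¹ * u₀ * w := by
      apply φ.injective
      apply Subtype.ext
      rw [hact, map_mul, map_mul, map_inv, hw, Subgroup.coe_mul, Subgroup.coe_mul, Subgroup.coe_inv]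
      show r⁻¹ * e₀ * (φ u₀).1 * (r⁻¹ * e₀)⁻¹ = r⁻¹ * (φ u₀).1 * r
      rw [mul_assoc r⁻¹, hEcomm _ he₀E _ hu₀E]
      group
    obtain ⟨A, hA⟩ := hexA _ hrn
    rw [hA] at hfx
    have hc := congrArg Heis.c hfx
    simp [act_apply, lin, hu₀] at hc
    have hω : u.x * w.y - u.y * w.x = 0 := by
      apply double_zero
      first | linear_combination hc | linear_combination -hc
    obtain ⟨k, hk1, hk2⟩ := omega_zero u.x u.y w.x w.y hu hω
    have hwe : w = u₀ ^ k.val * ⟨0, 0, w.c⟩ := by
      rw [pow_eq]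
      ext <;> simp [hu₀, hk1, hk2]
    have : r = (φ w).1 := by rw [hw]
    rw [this, hwe, map_mul, map_pow, Subgroup.coe_mul, Subgroup.coe_pow]
    exact mul_mem (pow_mem hu₀E _) (hgzE _)
  -- the quaternion part
  have hNR : ∀ x ∈ N, x ∈ R → ∀ h, α x h = h := by
    intro x hx hxR h
    obtain ⟨A, hA⟩ := hexA x hx
    rw [hA]
    obtain ⟨w, hw⟩ := φ.surjective ⟨x, hxR⟩
    have hconj : ∀ g, act A g = w * g * w⁻¹ := fun g => by
      apply φ.injective
      apply Subtype.ext
      rw [← hA, hact, map_mul, map_mul, map_inv, hw]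
      rfl
    have h1' := hconj ga
    have h2' := hconj gb
    simp [act_apply, lin, ga, gb, Heis.ext_iff] at h1' h2'
    obtain ⟨a0, a1, -⟩ := h1'
    obtain ⟨b0, b1, -⟩ := h2'
    rw [show A = 1 by ext i j; fin_cases i <;> fin_cases j <;> simp [a0, a1, b0, b1], map_one, MulAut.one_apply]
  let P₀ : Sylow 2 N := default
  let P : Subgroup X := (P₀ : Subgroup N).map N.subtype
  have hPN : P ≤ N := Subgroup.map_subtype_le _
  have hkerN : (q.comp N.subtype).range = ⊤ := MonoidHom.range_eq_top.2 fun g => by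
    obtain ⟨x, rfl⟩ := hqs g
    obtain ⟨r, hr, hx⟩ := hcover x
    exact ⟨⟨_, hx⟩, by simp [(hqR r).2 hr]⟩
  have hZN : Nat.card N = 24 * Nat.card (q.comp N.subtype).ker := by
    rw [← (q.comp N.subtype).ker.card_mul_index, Subgroup.index_ker, hkerN, Subgroup.card_top, card_SL23,
      mul_comm]
  have hker27 : ∃ i, Nat.card (q.comp N.subtype).ker = 3 ^ i := by
    have hd : Nat.card (q.comp N.subtype).ker ∣ 3 ^ 3 := by
      rw [show 3 ^ 3 = Nat.card R by rw [hRcard]; norm_num]
      exact Subgroup.card_dvd_of_injective (⟨⟨fun x => ⟨x.1.1, (hqR _).1 x.2⟩, rfl⟩, fun _ _ => rfl⟩ : (q.comp N.subtype).ker →* R)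
        fun x y h => Subtype.ext (Subtype.ext (congrArg Subtype.val h :))
    obtain ⟨i, -, hi⟩ := (Nat.dvd_prime_pow Nat.prime_three).1 hd
    exact ⟨i, hi⟩
  have hPcard : Nat.card P = 8 := by
    obtain ⟨i, hi⟩ := hker27
    rw [Subgroup.card_map_of_injective N.subtype_injective, P₀.card_eq_multiplicity, hZN, hi,
      show 24 = 2 ^ 3 * 3 by norm_num, mul_assoc, Nat.factorization_mul (by norm_num) (by positivity),
      Finsupp.add_apply, Nat.Prime.factorization_pow Nat.prime_two, Finsupp.single_eq_same,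
      Nat.factorization_eq_zero_of_not_dvd (show ¬ 2 ∣ 3 * 3 ^ i by
        rw [← pow_succ']; exact fun h => absurd (Nat.prime_two.dvd_of_dvd_pow h) (by norm_num))]
    norm_num
  have hPinj : ∀ u ∈ P, ∀ v ∈ P, q u = q v → u = v := by
    intro u hu v hv huv
    have hR' : u⁻¹ * v ∈ R := (hqR _).1 (by rw [map_mul, map_inv, huv, inv_mul_cancel])
    have h8 : orderOf (u⁻¹ * v) ∣ 8 := hPcard ▸ Subgroup.orderOf_dvd_natCard P (mul_mem (inv_mem hu) hv)
    have h3 : orderOf (u⁻¹ * v) ∣ 3 := orderOf_dvd_of_pow_eq_one (hRexp _ hR')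
    have h1 := Nat.dvd_gcd h8 h3
    norm_num at h1
    rw [inv_mul_eq_one] at h1
    exact h1
  have hset : ∀ g : SL23, g ^ 4 = 1 → ∃ u ∈ P, q u = g := by
    intro g hg
    let K := P.map q
    have hKcard : Nat.card K = 8 := by
      rw [← hPcard]
      refine (Nat.card_congr (Equiv.ofBijective (fun u : P => (⟨q u, Subgroup.mem_map_of_mem q u.2⟩ : K)) ⟨?_, ?_⟩)).symm
      · exact fun u v h => Subtype.ext (hPinj _ u.2 _ v.2 (congrArg Subtype.val h))
      · rintro ⟨_, u, hu, rfl⟩; exact ⟨⟨u, hu⟩, rfl⟩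
    suffices (K : Set SL23) = {x | x ^ 4 = 1} by
      exact (this.symm ▸ hg : g ∈ (K : Set SL23))
    refine Set.eq_of_subset_of_ncard_le (fun x hx => ?_) ?_ (Set.toFinite _)
    · have h8 : x ^ 8 = 1 := by
        rw [← hKcard, ← orderOf_dvd_iff_pow_eq_one]
        exact Subgroup.orderOf_dvd_natCard K hx
      exact pow_four_of_pow_eight x h8
    · rw [show (K : Set SL23).ncard = 8 from (Nat.card_coe_set_eq _).symm.trans hKcard]
      exact le_of_eq (by rw [← Nat.card_coe_set_eq, Nat.card_eq_fintype_card]; exact card_pow_four)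
  have hPiff : ∀ x ∈ N, x ^ 4 = 1 → x ∈ P := by
    intro x hx hx4
    obtain ⟨u, hu, hqu⟩ := hset (q x) (by rw [← map_pow, hx4, map_one])
    have hr : u⁻¹ * x ∈ R := (hqR _).1 (by rw [map_mul, map_inv, hqu, inv_mul_cancel])
    set w := u⁻¹ * x with hw
    have hwN : w ∈ N := mul_mem (inv_mem (hPN hu)) hx
    have hu4 : u ^ 4 = 1 := by
      refine hPinj _ (pow_mem hu 4) _ (one_mem P) ?_
      rw [map_pow, hqu, ← map_pow, hx4, map_one]
    have hcw : Commute u w := by
      obtain ⟨t, ht⟩ := φ.surjective ⟨w, hr⟩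
      have h := hact φ u t
      obtain ⟨A, hA⟩ := hexA u (hPN hu)
      have htx : t.x = 0 ∧ t.y = 0 := by
        have h1 := hNR w hwN hr ga
        have h2 := hNR w hwN hr gb
        have hconj : ∀ g, α w g = t * g * t⁻¹ := fun g => by
          apply φ.injective
          apply Subtype.ext
          rw [hact, map_mul, map_mul, map_inv, ht]
          rfl
        rw [hconj] at h1 h2
        simp [ga, gb, Heis.ext_iff] at h1 h2
        constructor
        · first
            | exact double_zero _ (by linear_combination h2)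
            | exact double_zero _ (by linear_combination -h2)
        · first
            | exact double_zero _ (by linear_combination h1)
            | exact double_zero _ (by linear_combination -h1)
      have hfix : α u t = t := by
        rw [hA]; ext <;> simp [act_apply, lin, htx.1, htx.2]
      rw [hfix, ht] at h
      exact (eq_mul_inv_iff_mul_eq.1 h).symm
    have hxe : x = u * w := by rw [hw, mul_inv_cancel_left]
    have hw4 : w ^ 4 = 1 := by
      have := hx4
      rwa [hxe, hcw.mul_pow, hu4, one_mul] at this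
    have hw1 : w = 1 := by
      have h3 := hRexp w hr
      rw [pow_succ, h3, one_mul] at hw4
      exact hw4
    rw [hxe, hw1, mul_one]
    exact hu
  have hP4 : ∀ x ∈ P, x ^ 4 = 1 := by
    intro x hx
    refine hPinj _ (pow_mem hx 4) _ (one_mem P) ?_
    rw [map_pow, map_one]
    have h8 : (q x) ^ 8 = 1 := by
      rw [← map_pow, show x ^ 8 = 1 from orderOf_dvd_iff_pow_eq_one.1 (hPcard ▸ Subgroup.orderOf_dvd_natCard P hx), map_one]
    exact pow_four_of_pow_eight _ h8
  have hjP : j ∈ P := hPiff j (hN.2 rfl) (by rw [show 4 = 2 * 2 from rfl, pow_mul, pow_two j, hj2, one_pow])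
  have hPnorm : ∀ x ∈ N, ∀ u ∈ P, x * u * x⁻¹ ∈ P := fun x hx u hu =>
    hPiff _ (mul_mem (mul_mem hx (hPN hu)) (inv_mem hx)) (by rw [conj_pow, hP4 u hu, mul_one, mul_inv_cancel])
  -- the complement
  let L : Subgroup X := P ⊔ Subgroup.zpowers n
  have hnn : Subgroup.zpowers n ≤ Subgroup.normalizer (P : Set X) := by
    rw [Subgroup.zpowers_le, Subgroup.mem_normalizer_iff]
    intro u
    refine ⟨hPnorm n hnN u, fun hu => ?_⟩
    have := hPnorm n⁻¹ (inv_mem hnN) _ hu
    simpa [mul_assoc] using this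
  have hno : orderOf n = 3 := orderOf_eq_prime hn3 (fun h => hqn (by rw [h, map_one]))
  have hLle : Nat.card L ≤ 24 := by
    have hsurj : Function.Surjective (fun w : P × Subgroup.zpowers n =>
        (⟨w.1.1 * w.2.1, mul_mem (Subgroup.mem_sup_left w.1.2) (Subgroup.mem_sup_right w.2.2)⟩ : L)) := by
      rintro ⟨x, hx⟩
      obtain ⟨u, hu, v, hv, rfl⟩ : x ∈ (P : Set X) * (Subgroup.zpowers n : Set X) := by
        rw [← Subgroup.coe_mul_of_right_le_normalizer_left P _ hnn]
        exact hx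
      exact ⟨(⟨u, hu⟩, ⟨v, hv⟩), rfl⟩
    have := Nat.card_le_card_of_surjective _ hsurj
    rwa [Nat.card_prod, hPcard, Nat.card_zpowers, hno] at this
  have hLN : L ≤ N := sup_le hPN (Subgroup.zpowers_le.2 hnN)
  let qL := q.comp L.subtype
  have hqLtop : qL.range = ⊤ := by
    refine Subgroup.eq_top_of_le_card _ ?_
    rw [card_SL23]
    have h8 : 8 ∣ Nat.card qL.range := by
      have hle : P.map q ≤ qL.range := by
        rintro _ ⟨u, hu, rfl⟩; exact ⟨⟨u, Subgroup.mem_sup_left hu⟩, rfl⟩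
      have h := Subgroup.card_dvd_of_le hle
      rwa [show Nat.card (P.map q) = 8 by
        rw [← hPcard]
        exact (Nat.card_congr (Equiv.ofBijective (fun u : P => (⟨q u, Subgroup.mem_map_of_mem q u.2⟩ : P.map q))
          ⟨fun u v h => Subtype.ext (hPinj _ u.2 _ v.2 (congrArg Subtype.val h)),
           fun ⟨_, u, hu, he⟩ => ⟨⟨u, hu⟩, Subtype.ext he⟩⟩)).symm] at h
    have h3 : 3 ∣ Nat.card qL.range := by
      have := Subgroup.orderOf_dvd_natCard qL.range
        (⟨⟨n, Subgroup.mem_sup_right (Subgroup.mem_zpowers n)⟩, rfl⟩ : q n ∈ qL.range)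
      rwa [orderOf_eq_prime (by rw [← map_pow, hn3, map_one]) hqn] at this
    exact Nat.le_of_dvd Nat.card_pos (Nat.Coprime.mul_dvd_of_dvd_of_dvd (by norm_num) h8 h3)
  have hqLbij : Function.Bijective qL := by
    have hsurj := MonoidHom.range_eq_top.1 hqLtop
    refine (Nat.bijective_iff_surjective_and_card _).2 ⟨hsurj, le_antisymm ?_ ?_⟩
    · rw [card_SL23]; exact hLle
    · exact Nat.card_le_card_of_surjective _ hsurj
  choose β hβ using fun l : L => hexA l.1 (hLN l.2)
  let βhom : L →* SL23 :=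
    { toFun := β
      map_one' := act_injective (by rw [← hβ 1, map_one, OneMemClass.coe_one, map_one])
      map_mul' := fun l m => act_injective (by rw [map_mul, ← hβ, ← hβ, ← hβ, Subgroup.coe_mul, map_mul]) }
  have hβinj : Function.Injective βhom := by
    refine (injective_iff_map_eq_one _).2 fun l hl => ?_
    by_contra hl1
    have hg : qL l ≠ 1 := fun h => hl1 (hqLbij.1 (h.trans (map_one qL).symm))
    obtain ⟨h, hh⟩ := exists_neg_one _ hg
    obtain ⟨hl', rfl⟩ := hqLbij.2 h
    set K := βhom.ker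
    have hlK : l ∈ K := hl
    have hcK : l * hl' * l⁻¹ * hl'⁻¹ ∈ K := by
      rw [mul_assoc, mul_assoc, ← mul_assoc hl']
      exact mul_mem hlK ((MonoidHom.normal_ker βhom).conj_mem _ (inv_mem hlK) hl')
    obtain ⟨m, hm, hmq⟩ : ∃ m ∈ K, qL m = m1 := by
      rcases hh with hh | hh | hh | hh | hh
      · exact ⟨l, hlK, Subtype.ext (hh.trans hm1.symm)⟩
      · exact ⟨_, mul_mem hlK hlK, Subtype.ext (by rw [map_mul]; exact hh.trans hm1.symm)⟩
      · exact ⟨_, mul_mem (mul_mem hlK hlK) hlK, Subtype.ext (by rw [map_mul, map_mul]; exact hh.trans hm1.symm)⟩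
      · exact ⟨_, hcK, Subtype.ext (by rw [map_mul, map_mul, map_mul, map_inv, map_inv]; exact hh.trans hm1.symm)⟩
      · exact ⟨_, mul_mem hcK hcK, Subtype.ext (by
          rw [map_mul, map_mul, map_mul, map_mul, map_inv, map_inv]; exact hh.trans hm1.symm)⟩
    have hmj : m = ⟨j, Subgroup.mem_sup_left hjP⟩ := hqLbij.1 (hmq.trans hqj.symm)
    have h1 : α j = act 1 := by
      rw [← show β m = 1 from hm, ← hβ m, hmj]
    rw [hαj, map_one] at h1
    have := congrArg Heis.x (DFunLike.congr_fun h1 ga)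
    simp [negAut, ga] at this
    exact neg_one_ne this
  have hβbij : Function.Bijective βhom := (Nat.bijective_iff_injective_and_card _).2
    ⟨hβinj, by rw [Nat.card_congr (Equiv.ofBijective qL hqLbij)]⟩
  let γ : SL23 →* X := L.subtype.comp (MulEquiv.ofBijective βhom hβbij).symm.toMonoidHom
  have hγ : ∀ A, α (γ A) = act A := fun A => by
    show α ((MulEquiv.ofBijective βhom hβbij).symm A).1 = _
    rw [hβ]
    exact congrArg act ((MulEquiv.ofBijective βhom hβbij).apply_symm_apply A)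
  let Ψ : Model →* X := SemidirectProduct.lift (R.subtype.comp φ.toMonoidHom) γ (fun A => by
    ext h
    show (φ (act A h)).1 = γ A * (φ h).1 * (γ A)⁻¹
    rw [← hγ, hact])
  have hinj : Function.Injective Ψ := by
    refine (injective_iff_map_eq_one _).2 fun m hm => ?_
    rw [← SemidirectProduct.inl_left_mul_inr_right m, map_mul, SemidirectProduct.lift_inl,
      SemidirectProduct.lift_inr] at hm
    set l := (MulEquiv.ofBijective βhom hβbij).symm m.right with hl
    have hlR : qL l = 1 := by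
      have h' : l.1 = ((φ m.left : R) : X)⁻¹ := eq_inv_of_mul_eq_one_right hm
      show q l.1 = 1
      rw [h', map_inv, (hqR _).2 (φ m.left).2, inv_one]
    have hl1 : l = 1 := hqLbij.1 (hlR.trans (map_one qL).symm)
    have hr1 : m.right = 1 := by
      have := congrArg (MulEquiv.ofBijective βhom hβbij) hl1
      rwa [hl, MulEquiv.apply_symm_apply, map_one] at this
    have hleft : (φ m.left : R).1 = 1 := by
      have h' : γ m.right = 1 := by rw [hr1, map_one]
      rw [show (R.subtype.comp φ.toMonoidHom) m.left = (φ m.left).1 from rfl, h', mul_one] at hm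
      exact hm
    refine SemidirectProduct.ext ?_ hr1
    exact (map_eq_one_iff φ φ.injective).1 (Subtype.ext hleft)
  exact ⟨MulEquiv.ofBijective Ψ ((Nat.bijective_iff_injective_and_card _).2
    ⟨hinj, by rw [hXcard, card_model]⟩)⟩

end Cfsg.Agent.Lib.HeisSL23
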